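import Groth.Agent.Lib.AffAct15.Quot
import Groth.Agent.S11445

/-!
# Morphisms which are affine quotients locally on the target
-/

set_option autoImplicit false
set_option linter.style.haveILetI false
set_option backward.isDefEq.respectTransparency.types false
universe u

open CategoryTheory Limits MonoidalCategory CartesianMonoidalCategory MonObj AlgebraicGeometry Topology Opposite
open CoactBr (sp pt)
open Groth.Agent.GITQuot (resT resT_bijective resLE_resT exists_pullback_action isInvSection_app)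

noncomputable section

namespace Groth.Agent.AffAct15

variable {k : Type u} [Field k] {G X Y : Over (Spec (CommRingCat.of k))} [GrpObj G]

/-- Every pullback along `g` is an affine quotient. -/
def AffQuotOver (a : AlgGrp.Action G X) (φ : X ⟶ Y) {Y₁ : Over (Spec (CommRingCat.of k))} (g : Y₁ ⟶ Y) : Prop :=
  ∀ ⦃X₁ : Over (Spec (CommRingCat.of k))⦄ (pr : X₁ ⟶ X) (φ₁ : X₁ ⟶ Y₁), IsPullback pr φ₁ φ g →
    ∀ a₁ : AlgGrp.Action G X₁, a₁.act ≫ pr = (G ◁ pr) ≫ a.act → GIT.IsInvariant a₁ φ₁ → IsAffQuot a₁ φ₁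

/-- An invariant morphism which is an affine quotient locally on the target. -/
def IsLocAffQuot (a : AlgGrp.Action G X) (φ : X ⟶ Y) : Prop :=
  GIT.IsInvariant a φ ∧ ∀ y : Y.left, ∃ (Y₀ : Over (Spec (CommRingCat.of k))) (g : Y₀ ⟶ Y),
    IsOpenImmersion g.left ∧ y ∈ Set.range g.left.base ∧ IsAffine Y₀.left ∧ AffQuotOver a φ g

theorem isInvSection_res {a : AlgGrp.Action G X} {φ : X ⟶ Y} {U V : Y.left.Opens} (hVU : V ≤ U)
    {f : Γ(X.left, φ.left ⁻¹ᵁ U)} (hf : GIT.IsInvSection a φ U f) :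
    GIT.IsInvSection a φ V (X.left.presheaf.map (homOfLE (φ.left.preimage_mono hVU)).op f) := by
  set D := a.act.left ⁻¹ᵁ (φ.left ⁻¹ᵁ U) ⊓ (snd G X).left ⁻¹ᵁ (φ.left ⁻¹ᵁ U)
  set D' := a.act.left ⁻¹ᵁ (φ.left ⁻¹ᵁ V) ⊓ (snd G X).left ⁻¹ᵁ (φ.left ⁻¹ᵁ V)
  have hD : D' ≤ D := inf_le_inf (a.act.left.preimage_mono (φ.left.preimage_mono hVU))
    ((snd G X).left.preimage_mono (φ.left.preimage_mono hVU))
  have := congrArg ((G ⊗ X).left.presheaf.map (homOfLE hD).op) (show _ = _ from hf)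
  rw [← CommRingCat.comp_apply, ← CommRingCat.comp_apply, Scheme.Hom.appLE_map, Scheme.Hom.appLE_map] at this
  show a.act.left.appLE _ D' inf_le_left _ = (snd G X).left.appLE _ D' inf_le_right _
  rw [← CommRingCat.comp_apply, ← CommRingCat.comp_apply, Scheme.Hom.map_appLE, Scheme.Hom.map_appLE]
  exact this

theorem appLE_top_eq_iff {P Q : Scheme.{u}} (f g : P ⟶ Q) {W : P.Opens} (hW : W = ⊤) (e₁ : W ≤ f ⁻¹ᵁ ⊤)
    (e₂ : W ≤ g ⁻¹ᵁ ⊤) (s : Γ(Q, ⊤)) :
    f.appLE ⊤ W e₁ s = g.appLE ⊤ W e₂ s ↔ f.appTop s = g.appTop s := by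
  subst hW
  have : ∀ (h : P ⟶ Q) (e : (⊤ : P.Opens) ≤ h ⁻¹ᵁ ⊤), h.appLE ⊤ ⊤ e = h.appTop := fun h e =>
    (h.app_eq_appLE (U := ⊤)).symm
  rw [this f, this g]

section

variable [IsAffine G.left] {A : Type u} [CommRing A] [HopfAlgebra k A] (eG : sp k A ⟶ G) [IsMonHom eG] [IsIso eG]
  (hG : HopfRep.IsLinearlyReductive k A) {a : AlgGrp.Action G X} {φ : X ⟶ Y}

include eG hG

theorem IsAffQuot.isLocAffQuot (h : IsAffQuot a φ) : IsLocAffQuot a φ :=
  ⟨h.invt, fun y => ⟨Y, 𝟙 Y, by rw [Over.id_left]; infer_instance, ⟨y, rfl⟩, h.affY,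
    fun _ _ _ sq _ e hi => by haveI := h.affY; exact h.baseChange eG hG sq e hi⟩⟩

/-- Affine schemes mapping into a piece of the quotient give affine quotients. -/
theorem AffQuotOver.of_range_subset (hinv : GIT.IsInvariant a φ) {Y₀ Y₁ : Over (Spec (CommRingCat.of k))}
    {g : Y₀ ⟶ Y} [IsOpenImmersion g.left] (h : AffQuotOver a φ g) [IsAffine Y₁.left] (g₁ : Y₁ ⟶ Y)
    (hr : Set.range g₁.left.base ⊆ Set.range g.left.base) : AffQuotOver a φ g₁ := by
  intro X₁ pr φ₁ sq a₁ e hi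
  let l : Y₁ ⟶ Y₀ := Over.homMk (IsOpenImmersion.lift g.left g₁.left hr) (by
    rw [← Over.w g, ← Category.assoc, IsOpenImmersion.lift_fac, Over.w])
  have hl : l ≫ g = g₁ := Over.OverMorphism.ext (IsOpenImmersion.lift_fac _ _ _)
  have sq₀ := IsPullback.of_hasPullback φ g
  obtain ⟨a₀, e₀, hi₀⟩ := exists_pullback_action hinv sq₀
  let p : X₁ ⟶ pullback φ g := sq₀.lift pr (φ₁ ≫ l) (by rw [Category.assoc, hl, sq.w])
  have hp1 : p ≫ pullback.fst φ g = pr := sq₀.lift_fst _ _ _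
  have hp2 : p ≫ pullback.snd φ g = φ₁ ≫ l := sq₀.lift_snd _ _ _
  have sqr : IsPullback p φ₁ (pullback.snd φ g) l := by
    refine IsPullback.of_right ?_ hp2 sq₀
    rw [hp1, hl]
    exact sq
  refine (h _ _ sq₀ a₀ e₀ hi₀).baseChange eG hG sqr ?_ hi
  refine sq₀.hom_ext ?_ ?_
  · rw [Category.assoc, hp1, e, Category.assoc, e₀, ← MonoidalCategory.whiskerLeft_comp_assoc, hp1]
  · rw [Category.assoc, hp2, ← Category.assoc, show a₁.act ≫ φ₁ = snd G X₁ ≫ φ₁ from hi, Category.assoc,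
      Category.assoc, show a₀.act ≫ _ = snd G _ ≫ pullback.snd φ g from hi₀, whiskerLeft_snd_assoc, hp2]

/-- Local affine quotients are stable under every base change. -/
theorem IsLocAffQuot.baseChange (h : IsLocAffQuot a φ) {X' Y' : Over (Spec (CommRingCat.of k))}
    {pr : X' ⟶ X} {φ' : X' ⟶ Y'} {g : Y' ⟶ Y} (sq : IsPullback pr φ' φ g) {a' : AlgGrp.Action G X'}
    (e : a'.act ≫ pr = (G ◁ pr) ≫ a.act) (hi : GIT.IsInvariant a' φ') : IsLocAffQuot a' φ' := by
  refine ⟨hi, fun y => ?_⟩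
  obtain ⟨Y₀, g₀, hg₀, hy₀, -, hq⟩ := h.2 (g.left.base y)
  haveI := hg₀
  obtain ⟨V, hV, hyV, hle⟩ := exists_isAffineOpen_mem_and_subset
    (show y ∈ g.left ⁻¹ᵁ g₀.left.opensRange from hy₀)
  haveI : IsAffine (Over.mk (V.ι ≫ Y'.hom)).left := hV
  let gV : Over.mk (V.ι ≫ Y'.hom) ⟶ Y' := Over.homMk V.ι rfl
  refine ⟨_, gV, inferInstanceAs (IsOpenImmersion V.ι), ⟨⟨y, hyV⟩, rfl⟩, hV, ?_⟩
  intro X₁ pr₁ φ₁ sq₁ a₁ e₁ hi₁
  refine (hq.of_range_subset eG hG h.1 (gV ≫ g) ?_) (pr₁ ≫ pr) φ₁ (sq₁.paste_horiz sq) a₁ ?_ hi₁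
  · rintro _ ⟨z, rfl⟩
    exact hle z.2
  · rw [← Category.assoc, e₁, Category.assoc, e, ← Category.assoc, MonoidalCategory.whiskerLeft_comp]

theorem IsLocAffQuot.exists_common (h : IsLocAffQuot a φ) {J : Type u} (W : J → Set X.left)
    (hc : ∀ i, IsClosed (W i)) (hi : ∀ i, a.act.left.base '' ((snd G X).left.base ⁻¹' W i) ⊆ W i)
    (y : Y.left) (hy : ∀ i, y ∈ closure (φ.left.base '' W i)) : ∃ x, φ.left.base x = y ∧ ∀ i, x ∈ W i := by
  obtain ⟨Y₀, g, hg, ⟨y₀, rfl⟩, -, hq⟩ := h.2 y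
  haveI := hg
  have sq := IsPullback.of_hasPullback φ g
  obtain ⟨a₀, e₀, hi₀⟩ := exists_pullback_action h.1 sq
  have sq' : IsPullback (pullback.fst φ g).left (pullback.snd φ g).left φ.left g.left := sq.map (Over.forget _)
  obtain ⟨x, hx, hxW⟩ := (hq _ _ sq a₀ e₀ hi₀).exists_common eG hG
    (fun i => (pullback.fst φ g).left.base ⁻¹' W i)
    (fun i => (hc i).preimage (pullback.fst φ g).left.continuous)
    (fun i => by
      rintro _ ⟨z, hz, rfl⟩
      refine hi i ⟨(G ◁ pullback.fst φ g).left.base z, ?_, ?_⟩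
      · show ((G ◁ pullback.fst φ g) ≫ snd G X).left.base z ∈ W i
        rw [whiskerLeft_snd]
        exact hz
      · exact congrArg (fun m : G ⊗ pullback φ g ⟶ X => m.left.base z) e₀.symm)
    y₀ (fun i => by
      have h1 : y₀ ∈ closure (g.left.base ⁻¹' (φ.left.base '' W i)) := by
        rw [← g.left.isOpenEmbedding.isOpenMap.preimage_closure_eq_closure_preimage g.left.continuous]
        exact hy i
      refine closure_mono ?_ h1
      rintro z ⟨w, hw, hwz⟩
      obtain ⟨v, hv1, hv2⟩ := Scheme.Pullback.exists_preimage_pullback (f := φ.left) (g := g.left) w z hwz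
      refine ⟨sq'.isoPullback.inv v, ?_, ?_⟩
      · show (sq'.isoPullback.inv ≫ (pullback.fst φ g).left) v ∈ W i
        rw [sq'.isoPullback_inv_fst, hv1]
        exact hw
      · show (sq'.isoPullback.inv ≫ (pullback.snd φ g).left) v = z
        rw [sq'.isoPullback_inv_snd, hv2])
  refine ⟨(pullback.fst φ g).left.base x, ?_, hxW⟩
  show (pullback.fst φ g ≫ φ).left.base x = _
  rw [sq.w]
  exact congrArg g.left.base hx

theorem IsLocAffQuot.sections_small (hinv : GIT.IsInvariant a φ) {Y₀ : Over (Spec (CommRingCat.of k))}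
    {g : Y₀ ⟶ Y} [IsOpenImmersion g.left] (hq : AffQuotOver a φ g) {V : Y.left.Opens} (hV : IsAffineOpen V)
    (hle : (V : Set Y.left) ⊆ Set.range g.left.base) :
    Function.Injective (φ.left.app V) ∧ Set.range (φ.left.app V) = {f | GIT.IsInvSection a φ V f} := by
  set O := φ.left ⁻¹ᵁ V with hO
  let W : Over (Spec (CommRingCat.of k)) := Over.mk (V.ι ≫ Y.hom)
  haveI : IsAffine W.left := hV
  let gV : W ⟶ Y := Over.homMk V.ι rfl
  let X₀ : Over (Spec (CommRingCat.of k)) := Over.mk (O.ι ≫ X.hom)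
  let pr : X₀ ⟶ X := Over.homMk O.ι rfl
  haveI : IsOpenImmersion pr.left := inferInstanceAs (IsOpenImmersion O.ι)
  let q : O.toScheme ⟶ V.toScheme := φ.left.resLE V O le_rfl
  have hqι : q ≫ V.ι = O.ι ≫ φ.left := φ.left.resLE_comp_ι le_rfl
  let φ₀ : X₀ ⟶ W := Over.homMk q (by
    show q ≫ V.ι ≫ Y.hom = O.ι ≫ X.hom
    rw [reassoc_of% hqι, Over.w])
  have sq : IsPullback pr φ₀ φ gV := by
    refine IsPullback.of_map (Over.forget _) (Over.OverMorphism.ext hqι.symm) ?_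
    show IsPullback O.ι q φ.left V.ι
    rw [show q = φ.left ∣_ V from Scheme.Hom.resLE_eq_morphismRestrict _]
    exact (isPullback_morphismRestrict φ.left V).flip
  obtain ⟨a₀, e₀, hi₀⟩ := exists_pullback_action hinv sq
  have hA := (hq.of_range_subset eG hG hinv gV (by rintro _ ⟨z, rfl⟩; exact hle z.2)) pr φ₀ sq a₀ e₀ hi₀
  have key : ∀ t : Γ(Y.left, V), φ₀.left.appTop (resT V t) = resT O (φ.left.app V t) := fun t => by
    rw [Scheme.Hom.app_eq_appLE]
    exact resLE_resT φ.left le_rfl t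
  refine ⟨fun t t' htt' => (resT_bijective V).1 (hA.inj (by rw [key, key, htt'])),
    Set.Subset.antisymm (Set.range_subset_iff.2 (isInvSection_app hinv V)) fun f hf => ?_⟩
  have h1 := (NRQ21.isInvSection_iff pr e₀ O (by show O ≤ O.ι.opensRange; rw [O.opensRange_ι]) ⊤
    O.ι_preimage_self.symm f).2 hf
  rw [appLE_top_eq_iff _ _ (by simp)] at h1
  obtain ⟨t, ht⟩ := hA.range.ge h1
  obtain ⟨t₀, rfl⟩ := (resT_bijective V).2 t
  refine ⟨t₀, (resT_bijective O).1 ?_⟩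
  rw [← key, ht]
  rfl

theorem IsLocAffQuot.sections (h : IsLocAffQuot a φ) (U : Y.left.Opens) :
    Function.Injective (φ.left.app U) ∧ Set.range (φ.left.app U) = {f | GIT.IsInvSection a φ U f} := by
  have small : ∀ U : Y.left.Opens, ∀ y ∈ U, ∃ V : Y.left.Opens, V ≤ U ∧ y ∈ V ∧
      (Function.Injective (φ.left.app V) ∧ Set.range (φ.left.app V) = {f | GIT.IsInvSection a φ V f}) := by
    intro U y hy
    obtain ⟨Y₀, g, hg, hyg, -, hq⟩ := h.2 y
    haveI := hg
    obtain ⟨V, hV, hyV, hle⟩ := exists_isAffineOpen_mem_and_subset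
      (show y ∈ U ⊓ g.left.opensRange from ⟨hy, hyg⟩)
    exact ⟨V, fun z hz => (hle hz).1, hyV, IsLocAffQuot.sections_small eG hG h.1 hq hV fun z hz => (hle hz).2⟩
  have nat : ∀ {V U : Y.left.Opens} (i : V ≤ U) (t : Γ(Y.left, U)),
      φ.left.app V (Y.left.presheaf.map (homOfLE i).op t) =
        X.left.presheaf.map (homOfLE (φ.left.preimage_mono i)).op (φ.left.app U t) := fun i t =>
    ConcreteCategory.congr_hom (φ.left.naturality (homOfLE i).op) t
  have inj : ∀ U, Function.Injective (φ.left.app U) := by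
    intro U t t' htt'
    choose V hVU hyV hV using small U
    refine Y.left.sheaf.eq_of_locally_eq' (fun y : U => V y y.2) U (fun y => homOfLE (hVU y y.2))
      (fun z hz => TopologicalSpace.Opens.mem_iSup.2 ⟨⟨z, hz⟩, hyV z hz⟩) t t' fun y => (hV y y.2).1 ?_
    show φ.left.app _ (Y.left.presheaf.map _ t) = φ.left.app _ (Y.left.presheaf.map _ t')
    rw [nat, nat, htt']
  refine ⟨inj U, Set.Subset.antisymm (Set.range_subset_iff.2 (isInvSection_app h.1 U)) fun f hf => ?_⟩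
  choose V hVU hyV hV using small U
  have hex : ∀ y : U, ∃ t, φ.left.app (V y y.2) t =
      X.left.presheaf.map (homOfLE (φ.left.preimage_mono (hVU y y.2))).op f := fun y =>
    (hV y y.2).2.ge (isInvSection_res (hVU y y.2) hf)
  choose t ht using hex
  obtain ⟨T, hT, -⟩ := Y.left.sheaf.existsUnique_gluing' (fun y : U => V y y.2) U
    (fun y => homOfLE (hVU y y.2)) (fun z hz => TopologicalSpace.Opens.mem_iSup.2 ⟨⟨z, hz⟩, hyV z hz⟩) t
    (by
      intro y z
      apply inj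
      show φ.left.app _ (Y.left.presheaf.map (homOfLE inf_le_left).op (t y)) =
        φ.left.app _ (Y.left.presheaf.map (homOfLE inf_le_right).op (t z))
      rw [nat, nat, ht, ht, ← CommRingCat.comp_apply, ← CommRingCat.comp_apply, ← Functor.map_comp,
        ← Functor.map_comp]
      rfl)
  refine ⟨T, ?_⟩
  refine X.left.sheaf.eq_of_locally_eq' (fun y : U => φ.left ⁻¹ᵁ V y y.2) (φ.left ⁻¹ᵁ U)
    (fun y => homOfLE (φ.left.preimage_mono (hVU y y.2)))
    (fun z hz => TopologicalSpace.Opens.mem_iSup.2 ⟨⟨φ.left.base z, hz⟩, hyV _ hz⟩) _ _ fun y => ?_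
  show X.left.presheaf.map _ (φ.left.app U T) = X.left.presheaf.map _ f
  rw [← nat (hVU y y.2), show Y.left.presheaf.map (homOfLE (hVU y y.2)).op T = t y from hT y, ht]

/-- Local affine quotients are categorical quotients and submersive. -/
theorem IsLocAffQuot.isCatQuot (h : IsLocAffQuot a φ) : GIT.IsCatQuot a φ ∧ IsQuotientMap φ.left.base := by
  refine Groth.Agent.S11445.result _ G X Y a φ h.1 (h.sections eG hG) ?_ ?_
  · intro W hW hWi
    refine closure_subset_iff_isClosed.1 fun y hy => ?_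
    obtain ⟨x, hx, hxW⟩ := h.exists_common eG hG (fun _ : PUnit.{u + 1} => W) (fun _ => hW) (fun _ => hWi) y
      fun _ => hy
    exact ⟨x, hxW ⟨⟩, hx⟩
  · intro J W hW
    refine Set.Subset.antisymm (Set.image_iInter_subset _ _) fun y hy => ?_
    obtain ⟨x, hx, hxW⟩ := h.exists_common eG hG W (fun i => (hW i).1) (fun i => (hW i).2) y
      fun i => subset_closure (Set.mem_iInter.1 hy i)
    exact ⟨x, Set.mem_iInter.2 hxW, hx⟩

theorem IsLocAffQuot.isUnivCatQuot (h : IsLocAffQuot a φ) : GIT.IsUnivCatQuot a φ :=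
  ⟨(h.isCatQuot eG hG).1, fun _ _ _ _ _ _ sq _ e hi => ((h.baseChange eG hG sq e hi).isCatQuot eG hG).1⟩

theorem IsLocAffQuot.isUnivSubmersive (h : IsLocAffQuot a φ) : GIT.IsUnivSubmersive φ.left := by
  intro X₁ Y₁ i₁ i₂ f H₀
  have H := H₀.flip
  let X₁' : Over (Spec (CommRingCat.of k)) := Over.mk (f ≫ i₂ ≫ Y.hom)
  let Y₁' : Over (Spec (CommRingCat.of k)) := Over.mk (i₂ ≫ Y.hom)
  let pr : X₁' ⟶ X := Over.homMk i₁ (by
    show i₁ ≫ X.hom = f ≫ i₂ ≫ Y.hom
    rw [← Over.w φ, ← Category.assoc, H.w, Category.assoc])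
  let φ₁ : X₁' ⟶ Y₁' := Over.homMk f rfl
  let g : Y₁' ⟶ Y := Over.homMk i₂ rfl
  have sq : IsPullback pr φ₁ φ g := IsPullback.of_map (Over.forget _) (Over.OverMorphism.ext H.w) H
  obtain ⟨a₁, e₁, hi₁⟩ := exists_pullback_action h.1 sq
  exact ((h.baseChange eG hG sq e₁ hi₁).isCatQuot eG hG).2

end

end Groth.Agent.AffAct15
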