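import Groth.Agent.Lib.AffAct15.Model
import Groth.Prelude.Def_Red
import Groth.Agent.Lib.FinGenH28.Basic

/-!
# Stable ideals of closed invariant subsets and separation by invariants
-/

set_option autoImplicit false
set_option linter.style.haveILetI false
set_option backward.isDefEq.respectTransparency.types false
universe u

open CategoryTheory MonoidalCategory CartesianMonoidalCategory MonObj AlgebraicGeometry
open scoped TensorProduct
open CoactBr (sp pt)
open Groth.Agent.Comodule

noncomputable section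

namespace Groth.Agent.AffAct15

variable {k : Type u} [Field k]

theorem pt_id {B : Type u} [CommRing B] [Algebra k B] : pt (AlgHom.id k B) = 𝟙 (sp k B) := by
  apply Over.OverMorphism.ext
  rw [CoactBr.pt_left]
  exact Spec.map_id _

/-- The underlying map of a point of an affine scheme. -/
theorem pt_base {B K : Type u} [CommRing B] [Algebra k B] [CommRing K] [Algebra k K] (x : B →ₐ[k] K)
    (p : PrimeSpectrum K) :
    (pt x).left.base p = PrimeSpectrum.comap x.toRingHom p := rfl

variable {G X : Over (Spec (CommRingCat.of k))} [GrpObj G] {A R : Type u} [CommRing A] [HopfAlgebra k A]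
  [CommRing R] [Algebra k R] [HopfRep.Comod k A R] [GLin.IsCoactAlg k A R]
  {eG : sp k A ⟶ G} {j : sp k R ⟶ X} [IsIso j] {a : AlgGrp.Action G X}

/-- The point of the spectrum of a field. -/
abbrev cl (L : Type u) [Field L] [Algebra k L] : (sp k L).left := (⊥ : PrimeSpectrum L)

/-- A set of points of the scheme seen in the spectrum of the ring. -/
def specSet (j : sp k R ⟶ X) (W : Set X.left) : Set (PrimeSpectrum R) :=
  {p | j.left.base p ∈ W}

theorem isClosed_specSet {W : Set X.left} (hW : IsClosed W) : IsClosed (specSet j W) :=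
  hW.preimage j.left.base.hom.continuous

/-- Every field-valued point of the action over a point of an invariant set lands in the set. -/
theorem ker_act_mem (hj : IsModel eG j a (GLin.coactAlgHom k A R)) {W : Set X.left}
    (hi : a.act.left.base '' ((snd G X).left.base ⁻¹' W) ⊆ W) {L : Type u} [Field L] [Algebra k L]
    (x : R →ₐ[k] L) (g : A →ₐ[k] L) (hx : PrimeSpectrum.comap x.toRingHom ⊥ ∈ specSet j W) :
    PrimeSpectrum.comap ((pair x g).comp (GLin.coactAlgHom k A R)).toRingHom ⊥ ∈ specSet j W := by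
  have e := congrArg (fun q : sp k L ⟶ X => q.left.base (cl L)) (hj L x g)
  have e2 := congrArg (fun q : sp k L ⟶ X => q.left.base (cl L))
    (lift_snd (pt g ≫ eG)⁻¹ (pt x ≫ j))
  show (pt ((pair x g).comp (GLin.coactAlgHom k A R)) ≫ j).left.base (cl L) ∈ W
  rw [← e]
  refine hi ⟨(lift (pt g ≫ eG)⁻¹ (pt x ≫ j)).left.base (cl L), ?_, rfl⟩
  show (lift (pt g ≫ eG)⁻¹ (pt x ≫ j) ≫ snd G X).left.base (cl L) ∈ W
  rw [e2]
  exact hx

variable (k A) in
/-- The ring map `f ↦ ρ f mod I`. -/
def redCoact (I : Ideal R) : R →ₐ[k] (R ⧸ I) ⊗[k] A :=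
  (Algebra.TensorProduct.map (Ideal.Quotient.mkₐ k I) (AlgHom.id k A)).comp (GLin.coactAlgHom k A R)

theorem redCoact_apply (I : Ideal R) (f : R) :
    redCoact k A I f = (Ideal.Quotient.mkₐ k I).toLinearMap.rTensor A (HopfRep.Comod.coact (k := k) f) := by
  rw [redCoact, AlgHom.comp_apply, GLin.coactAlgHom_apply]
  generalize HopfRep.Comod.coact (k := k) (A := A) f = z
  induction z with
  | zero => simp
  | add p q hp hq => simp only [map_add, hp, hq]
  | tmul p q => simp

/-- The kernel of the reduced coaction is stable. -/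
theorem isSubcomod_ker_redCoact (I : Ideal R) :
    HopfRep.IsSubcomod (k := k) (A := A) ((RingHom.ker (redCoact k A I)).restrictScalars k) := by
  intro f hf
  let Φ : R →ₗ[k] (R ⧸ I) ⊗[k] A :=
    (Ideal.Quotient.mkₐ k I).toLinearMap.rTensor A ∘ₗ HopfRep.Comod.coact (k := k) (A := A)
  have hker : LinearMap.ker Φ = (RingHom.ker (redCoact k A I)).restrictScalars k := by
    ext y
    simp [Φ, redCoact_apply, RingHom.mem_ker]
  show HopfRep.Comod.coact (k := k) (A := A) f ∈ tens A _
  rw [← hker, mem_tens_ker_iff]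
  have hf0 : Φ f = 0 := by
    have : f ∈ LinearMap.ker Φ := by rw [hker]; exact hf
    exact this
  have hco : ∀ y, TensorProduct.assoc k R A A
      (LinearMap.rTensor A (HopfRep.Comod.coact (k := k) (A := A)) (HopfRep.Comod.coact (k := k) y)) =
      LinearMap.lTensor R (CoalgebraStruct.comul (R := k) (A := A)) (HopfRep.Comod.coact (k := k) y) :=
    fun y => LinearMap.congr_fun HopfRep.Comod.coassoc y
  apply (TensorProduct.assoc k (R ⧸ I) A A).injective
  rw [map_zero, LinearMap.rTensor_comp_apply]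
  have nat : ∀ z : (R ⊗[k] A) ⊗[k] A, TensorProduct.assoc k (R ⧸ I) A A
      (LinearMap.rTensor A ((Ideal.Quotient.mkₐ k I).toLinearMap.rTensor A) z) =
      (Ideal.Quotient.mkₐ k I).toLinearMap.rTensor (A ⊗[k] A) (TensorProduct.assoc k R A A z) := by
    intro z
    induction z with
    | zero => simp
    | add p q hp hq => simp only [map_add, hp, hq]
    | tmul p q =>
      induction p with
      | zero => simp
      | add s t hs ht => simp only [map_add, TensorProduct.add_tmul, hs, ht]
      | tmul s t => simp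
  rw [nat, hco, ← LinearMap.comp_apply (LinearMap.rTensor _ _), LinearMap.rTensor_comp_lTensor,
    ← LinearMap.lTensor_comp_rTensor, LinearMap.comp_apply,
    show (Ideal.Quotient.mkₐ k I).toLinearMap.rTensor A (HopfRep.Comod.coact (k := k) f) = 0 from hf0, map_zero]

theorem ker_redCoact_le (I : Ideal R) : RingHom.ker (redCoact k A I) ≤ I := by
  intro f hf
  have h1 : LinearMap.lTensor R (CoalgebraStruct.counit (R := k) (A := A)) (HopfRep.Comod.coact (k := k) f) =
      f ⊗ₜ[k] (1 : k) := LinearMap.congr_fun HopfRep.Comod.counit_comp f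
  have key : TensorProduct.rid k (R ⧸ I) (LinearMap.lTensor _ (CoalgebraStruct.counit (R := k) (A := A))
      (redCoact k A I f)) = Ideal.Quotient.mkₐ k I f := by
    rw [redCoact_apply, ← LinearMap.comp_apply, LinearMap.lTensor_comp_rTensor, ← LinearMap.rTensor_comp_lTensor,
      LinearMap.comp_apply, h1]
    simp
  rw [RingHom.mem_ker] at hf
  rw [hf] at key
  simp only [map_zero] at key
  exact Ideal.Quotient.eq_zero_iff_mem.1 key.symm

/-- A closed invariant set is cut out by a stable ideal. -/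
theorem exists_stable_ideal (hj : IsModel eG j a (GLin.coactAlgHom k A R)) {W : Set X.left} (hW : IsClosed W)
    (hi : a.act.left.base '' ((snd G X).left.base ⁻¹' W) ⊆ W) :
    ∃ J : Ideal R, HopfRep.IsSubcomod (k := k) (A := A) (J.restrictScalars k) ∧
      PrimeSpectrum.zeroLocus (J : Set R) = specSet j W := by
  let I := PrimeSpectrum.vanishingIdeal (specSet j W)
  have hWI : PrimeSpectrum.zeroLocus (I : Set R) = specSet j W := by
    rw [PrimeSpectrum.zeroLocus_vanishingIdeal_eq_closure, (isClosed_specSet hW).closure_eq]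
  refine ⟨RingHom.ker (redCoact k A I), isSubcomod_ker_redCoact I, Set.Subset.antisymm ?_ ?_⟩
  · rw [← hWI]
    intro p hp f hf
    have hnil : IsNilpotent (redCoact k A I f) := by
      rw [nilpotent_iff_mem_prime]
      intro P hP
      let L := FractionRing (((R ⧸ I) ⊗[k] A) ⧸ P)
      let π : (R ⧸ I) ⊗[k] A →ₐ[k] L :=
        (IsScalarTower.toAlgHom k (((R ⧸ I) ⊗[k] A) ⧸ P) L).comp (Ideal.Quotient.mkₐ k P)
      let x : R →ₐ[k] L := π.comp (Algebra.TensorProduct.includeLeft.comp (Ideal.Quotient.mkₐ k I))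
      let g : A →ₐ[k] L := π.comp Algebra.TensorProduct.includeRight
      have hxg : (pair x g).comp (GLin.coactAlgHom k A R) = π.comp (redCoact k A I) := by
        rw [redCoact, ← AlgHom.comp_assoc]
        congr 1
        exact Algebra.TensorProduct.ext' fun s t => by simp [x, g, ← map_mul]
      have hx : PrimeSpectrum.comap x.toRingHom ⊥ ∈ specSet j W := by
        rw [← hWI]
        intro r hr
        show x r = 0
        have h0 : Ideal.Quotient.mkₐ k I r = 0 := Ideal.Quotient.eq_zero_iff_mem.2 hr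
        show π (Algebra.TensorProduct.includeLeft (S := k) (Ideal.Quotient.mkₐ k I r)) = 0
        rw [h0, map_zero, map_zero]
      have hm := ker_act_mem hj hi x g hx
      rw [hxg, ← hWI] at hm
      have h0 : π (redCoact k A I f) = 0 := hm hf
      refine Ideal.Quotient.eq_zero_iff_mem.1 (IsFractionRing.injective (((R ⧸ I) ⊗[k] A) ⧸ P) L ?_)
      rw [map_zero]
      exact h0
    obtain ⟨n, hn⟩ := hnil
    refine p.isPrime.mem_of_pow_mem n (hp ?_)
    rw [SetLike.mem_coe, RingHom.mem_ker, map_pow, hn]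
  · rw [← hWI]
    exact PrimeSpectrum.zeroLocus_anti_mono_ideal (ker_redCoact_le I)

theorem preimage_zeroLocus_fn (r : R) :
    specSet j (X.left.zeroLocus (U := ⊤) {fn j r}) = PrimeSpectrum.zeroLocus {r} := by
  have h : j.left.appTop (fn j r) = (Scheme.ΓSpecIso (CommRingCat.of R)).inv r := by
    have := appTop_fn (j := j) (AlgHom.id k R) r
    rw [pt_id, Category.id_comp] at this
    exact this
  ext p
  have h2 : (j.left ⁻¹ᵁ X.left.basicOpen (fn j r)) = (PrimeSpectrum.basicOpen r : TopologicalSpace.Opens _) := by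
    rw [Scheme.preimage_basicOpen_top]
    erw [h]
    exact basicOpen_eq_of_affine (R := CommRingCat.of R) r
  have h3 : j.left.base p ∈ X.left.basicOpen (fn j r) ↔ r ∉ p.asIdeal := by
    show p ∈ j.left ⁻¹ᵁ X.left.basicOpen (fn j r) ↔ _
    rw [h2]; rfl
  show j.left.base p ∈ X.left.zeroLocus (U := ⊤) {fn j r} ↔ _
  rw [Scheme.mem_zeroLocus_iff]
  simp only [Set.mem_singleton_iff, forall_eq, h3, not_not, PrimeSpectrum.mem_zeroLocus, Set.singleton_subset_iff,
    SetLike.mem_coe]

/-- Disjoint closed invariant sets are separated by an invariant function. -/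
theorem exists_invariant_separating [IsAffine G.left] [IsIso eG]
    (hj : IsModel eG j a (GLin.coactAlgHom k A R)) (hG : HopfRep.IsLinearlyReductive k A) {W₁ W₂ : Set X.left}
    (h₁ : IsClosed W₁) (h₂ : IsClosed W₂)
    (hi₁ : a.act.left.base '' ((snd G X).left.base ⁻¹' W₁) ⊆ W₁)
    (hi₂ : a.act.left.base '' ((snd G X).left.base ⁻¹' W₂) ⊆ W₂) (hd : Disjoint W₁ W₂) :
    ∃ f : Γ(X.left, ⊤), a.act.left.appTop f = (snd G X).left.appTop f ∧
      W₁ ⊆ X.left.zeroLocus (U := ⊤) {f} ∧ W₂ ⊆ X.left.zeroLocus (U := ⊤) {1 - f} := by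
  obtain ⟨J₁, hJ₁, hZ₁⟩ := exists_stable_ideal hj h₁ hi₁
  obtain ⟨J₂, hJ₂, hZ₂⟩ := exists_stable_ideal hj h₂ hi₂
  have hsup : J₁ ⊔ J₂ = ⊤ := by
    rw [← PrimeSpectrum.zeroLocus_empty_iff_eq_top, PrimeSpectrum.zeroLocus_sup, hZ₁, hZ₂]
    exact Set.eq_empty_of_forall_notMem fun p hp => Set.disjoint_left.1 hd hp.1 hp.2
  obtain ⟨u, hu, v, hv, huv⟩ := Submodule.mem_sup.1 (hsup ▸ Submodule.mem_top : (1 : R) ∈ J₁ ⊔ J₂)
  obtain ⟨E, hE⟩ := exists_reynolds (V := R) (A := A) hG
  have h1 : E 1 = 1 := (hE.fix 1).2 ((GLin.mem_invariants_iff k A R 1).1 (one_mem _))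
  have hu' : E u ∈ J₁ := hE.apply_mem hG hJ₁ hu
  have hv' : E v ∈ J₂ := hE.apply_mem hG hJ₂ hv
  have hsum : E u + E v = 1 := by rw [← map_add, huv, h1]
  have hsub : ∀ {W : Set X.left} {J : Ideal R}, PrimeSpectrum.zeroLocus (J : Set R) = specSet j W →
      ∀ {r : R}, r ∈ J → W ⊆ X.left.zeroLocus (U := ⊤) {fn j r} := by
    intro W J hZ r hr x hx
    haveI : IsIso j.left := inferInstanceAs (IsIso ((Over.forget _).map j))
    obtain ⟨p, rfl⟩ := (Scheme.homeoOfIso (asIso j.left)).surjective x
    have hp : p ∈ PrimeSpectrum.zeroLocus (J : Set R) := by rw [hZ]; exact hx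
    have : p ∈ specSet j (X.left.zeroLocus (U := ⊤) {fn j r}) := by
      rw [preimage_zeroLocus_fn]
      exact Set.singleton_subset_iff.2 (hp hr)
    exact this
  refine ⟨fn j (E u), (mem_invariants_iff hj (E u)).1 (hE.mem u), hsub hZ₁ hu', ?_⟩
  have : 1 - fn j (E u) = fn j (E v) := by
    rw [← map_one (fn j), ← map_sub, ← hsum, add_sub_cancel_left]
  rw [this]
  exact hsub hZ₂ hv'

end Groth.Agent.AffAct15
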