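import Groth.Agent.Lib.AlgGrpBasic19.Basic
import Groth.Agent.Lib.DiagGL.Points
import Groth.Agent.Lib.Comodule.Basic
import Groth.Prelude.Def_CoactBr
import Groth.Prelude.Def_W4bk4git07Quot

/-!
# An action on an affine scheme as a coaction on its ring
-/

set_option autoImplicit false
set_option linter.style.haveILetI false
set_option backward.isDefEq.respectTransparency.types false
universe u

open CategoryTheory MonoidalCategory CartesianMonoidalCategory MonObj AlgebraicGeometry
open scoped TensorProduct
open CoactBr (sp pt)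

noncomputable section

namespace Groth.Agent.AffAct15

variable {k : Type u} [Field k]

/-- Every map between spectra over the field is a point. -/
theorem exists_pt {K B : Type u} [CommRing K] [Algebra k K] [CommRing B] [Algebra k B] (q : sp k K ⟶ sp k B) :
    ∃ φ : B →ₐ[k] K, pt φ = q := by
  let φ₀ := Spec.preimage (DiagGL.lft q)
  have h : CommRingCat.ofHom (algebraMap k B) ≫ φ₀ = CommRingCat.ofHom (algebraMap k K) := by
    apply Spec.map_injective
    rw [Spec.map_comp, Spec.map_preimage]
    exact DiagGL.lft_w q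
  let φ : B →ₐ[k] K := { φ₀.hom with commutes' := fun r => ConcreteCategory.congr_hom h r }
  refine ⟨φ, Over.OverMorphism.ext ?_⟩
  rw [CoactBr.pt_left]
  exact Spec.map_preimage _

/-- An affine scheme over the field is a spectrum. -/
theorem exists_affModel (T : Over (Spec (CommRingCat.of k))) [IsAffine T.left] :
    ∃ (K : Type u) (_ : CommRing K) (_ : Algebra k K) (j : sp k K ⟶ T), IsIso j := by
  letI := (DiagGL.alg T).toAlgebra
  let e : T ⟶ sp k Γ(T.left, ⊤) := DiagGL.mk (RingHom.id _) fun _ => rfl
  haveI : IsIso e.left := by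
    show IsIso (T.left.toSpecΓ ≫ Spec.map (CommRingCat.ofHom (RingHom.id _)))
    rw [CommRingCat.ofHom_id, Spec.map_id]
    infer_instance
  haveI : IsIso ((Over.forget _).map e) := ‹IsIso e.left›
  haveI : IsIso e := isIso_of_reflects_iso _ (Over.forget _)
  exact ⟨Γ(T.left, ⊤), inferInstance, inferInstance, inv e, inferInstance⟩

variable {G X : Over (Spec (CommRingCat.of k))} [GrpObj G] {A R : Type u} [CommRing A] [HopfAlgebra k A]
  [CommRing R] [Algebra k R]

/-- The product of a point of the scheme and a point of the group. -/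
abbrev pair {K : Type u} [CommRing K] [Algebra k K] (x : R →ₐ[k] K) (g : A →ₐ[k] K) : R ⊗[k] A →ₐ[k] K :=
  Algebra.TensorProduct.lift x g fun _ _ => .all _ _

/-- The coaction describes the action through the inverse. -/
def IsModel (eG : sp k A ⟶ G) (j : sp k R ⟶ X) (a : AlgGrp.Action G X) (ρ : R →ₐ[k] R ⊗[k] A) : Prop :=
  ∀ (K : Type u) [CommRing K] [Algebra k K] (x : R →ₐ[k] K) (g : A →ₐ[k] K),
    lift (pt g ≫ eG)⁻¹ (pt x ≫ j) ≫ a.act = pt ((pair x g).comp ρ) ≫ j

variable (eG : sp k A ⟶ G) [IsMonHom eG] (j : sp k R ⟶ X) [IsIso j] (a : AlgGrp.Action G X)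

/-- The coaction of an action on an affine scheme. -/
theorem exists_model : ∃ (hC : HopfRep.Comod k A R) (hm : @GLin.IsCoactAlg k _ A _ _ R _ _ hC),
    IsModel eG j a (@GLin.coactAlgHom k _ A _ _ R _ _ hC hm) := by
  let iR : R →ₐ[k] R ⊗[k] A := Algebra.TensorProduct.includeLeft
  let iA : A →ₐ[k] R ⊗[k] A := Algebra.TensorProduct.includeRight
  obtain ⟨ρ, hρ⟩ := exists_pt (lift (pt iA ≫ eG)⁻¹ (pt iR ≫ j) ≫ a.act ≫ inv j)
  have hmodel : IsModel eG j a ρ := by
    intro K _ _ x g
    rw [CoactBr.pt_comp, hρ, Category.assoc, Category.assoc, Category.assoc, IsIso.inv_hom_id, Category.comp_id,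
      ← Category.assoc (pt (pair x g)), comp_lift, ← Category.assoc, ← CoactBr.pt_comp,
      show (pair x g).comp iR = x from AlgHom.ext fun r => by simp [iR]]
    congr 2
    rw [GrpObj.comp_inv, ← Category.assoc, ← CoactBr.pt_comp,
      show (pair x g).comp iA = g from AlgHom.ext fun r => by simp [iA]]
  have hinj : ∀ {K : Type u} [CommRing K] [Algebra k K] {p q : R →ₐ[k] K}, pt p ≫ j = pt q ≫ j → p = q :=
    fun h => CoactBr.pt_injective ((cancel_mono j).1 h)
  have h1 : (pair (AlgHom.id k R) ((Algebra.ofId k R).comp (Bialgebra.counitAlgHom k A))).comp ρ =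
      AlgHom.id k R := by
    refine hinj ?_
    rw [← hmodel, ← CoactBr.one_eq_pt, MonObj.one_comp, inv_one, AlgGrpBasic19.act_one]
  have h2 : ∀ r, TensorProduct.assoc k R A A (LinearMap.rTensor A ρ.toLinearMap (ρ r)) =
      LinearMap.lTensor R (CoalgebraStruct.comul (R := k) (A := A)) (ρ r) := by
    let K := R ⊗[k] (A ⊗[k] A)
    let x : R →ₐ[k] K := Algebra.TensorProduct.includeLeft
    let g₁ : A →ₐ[k] K :=
      (Algebra.TensorProduct.includeRight : A ⊗[k] A →ₐ[k] K).comp Algebra.TensorProduct.includeLeft
    let g₂ : A →ₐ[k] K :=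
      (Algebra.TensorProduct.includeRight : A ⊗[k] A →ₐ[k] K).comp Algebra.TensorProduct.includeRight
    have e : (pair ((pair x g₁).comp ρ) g₂).comp ρ = (pair x
        ((Algebra.TensorProduct.lift g₁ g₂ fun _ _ => .all _ _).comp (Bialgebra.comulAlgHom k A))).comp ρ := by
      refine hinj ?_
      rw [← hmodel, ← hmodel, ← hmodel, ← CoactBr.pt_mul_pt, MonObj.mul_comp, mul_inv_rev, AlgGrpBasic19.act_mul]
    intro r
    refine Eq.trans ?_ ((AlgHom.congr_fun e r).trans ?_)
    · rw [AlgHom.comp_apply]
      generalize ρ r = z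
      induction z with
      | zero => simp
      | add p q hp hq => simp only [map_add, hp, hq]
      | tmul p q =>
        rw [LinearMap.rTensor_tmul, Algebra.TensorProduct.lift_tmul, AlgHom.comp_apply, AlgHom.toLinearMap_apply]
        generalize ρ p = w
        induction w with
        | zero => simp
        | add s t hs ht => simp only [map_add, TensorProduct.add_tmul, hs, ht, add_mul]
        | tmul s t =>
          rw [TensorProduct.assoc_tmul, Algebra.TensorProduct.lift_tmul]
          simp [x, g₁, g₂]
          erw [Algebra.TensorProduct.includeLeft_apply]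
          erw [Algebra.TensorProduct.tmul_mul_tmul, Algebra.TensorProduct.tmul_mul_tmul]
          simp [Algebra.TensorProduct.tmul_mul_tmul]
    · rw [AlgHom.comp_apply]
      generalize ρ r = z
      induction z with
      | zero => simp
      | add p q hp hq => simp only [map_add, hp, hq]
      | tmul p q =>
        rw [LinearMap.lTensor_tmul, Algebra.TensorProduct.lift_tmul, AlgHom.comp_apply, Bialgebra.comulAlgHom_apply]
        generalize CoalgebraStruct.comul (R := k) q = w
        induction w with
        | zero => simp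
        | add s t hs ht => simp only [map_add, TensorProduct.tmul_add, ← hs, ← ht, mul_add]
        | tmul s t =>
          rw [Algebra.TensorProduct.lift_tmul]
          simp [x, g₁, g₂]
          erw [Algebra.TensorProduct.includeLeft_apply]
          erw [Algebra.TensorProduct.tmul_mul_tmul, Algebra.TensorProduct.tmul_mul_tmul]
          simp [Algebra.TensorProduct.tmul_mul_tmul]
  letI hC : HopfRep.Comod k A R :=
    { coact := ρ.toLinearMap
      coassoc := LinearMap.ext fun r => h2 r
      counit_comp := LinearMap.ext fun r => by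
        apply (TensorProduct.rid k R).injective
        refine Eq.trans ?_ ((AlgHom.congr_fun h1 r).trans ?_)
        · rw [LinearMap.comp_apply, AlgHom.toLinearMap_apply, AlgHom.comp_apply]
          generalize ρ r = z
          induction z with
          | zero => simp
          | add p q hp hq => simp only [map_add, hp, hq]
          | tmul p q => simp [Algebra.smul_def, mul_comm]
        · simp }
  haveI hm : GLin.IsCoactAlg k A R := ⟨map_one ρ, map_mul ρ⟩
  refine ⟨hC, hm, ?_⟩
  intro K _ _ x g
  rw [hmodel K x g]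
  rfl

variable [HopfRep.Comod k A R] [GLin.IsCoactAlg k A R] {eG j a}

omit [IsMonHom eG] in
/-- Equivariant maps of affine schemes give comodule maps. -/
theorem isComodHom_of_equivariant (hj : IsModel eG j a (GLin.coactAlgHom k A R)) {R' : Type u} [CommRing R']
    [Algebra k R'] [HopfRep.Comod k A R'] [GLin.IsCoactAlg k A R'] {X' : Over (Spec (CommRingCat.of k))}
    {a' : AlgGrp.Action G X'} {j' : sp k R' ⟶ X'} (hj' : IsModel eG j' a' (GLin.coactAlgHom k A R')) {p : X' ⟶ X}
    (hp : a'.act ≫ p = (G ◁ p) ≫ a.act) {f : R →ₐ[k] R'} (hf : pt f ≫ j = j' ≫ p) :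
    Hoch.IsComodHom A f.toLinearMap := by
  let iR : R' →ₐ[k] R' ⊗[k] A := Algebra.TensorProduct.includeLeft
  let iA : A →ₐ[k] R' ⊗[k] A := Algebra.TensorProduct.includeRight
  have hid : pair iR iA = AlgHom.id k (R' ⊗[k] A) := Algebra.TensorProduct.ext' fun r x => by simp [iR, iA]
  have e : (pair (iR.comp f) iA).comp (GLin.coactAlgHom k A R) =
      ((pair iR iA).comp (GLin.coactAlgHom k A R')).comp f := by
    refine CoactBr.pt_injective ((cancel_mono j).1 ?_)
    rw [← hj, CoactBr.pt_comp, CoactBr.pt_comp f, Category.assoc, Category.assoc, hf,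
      ← Category.assoc _ j' p, ← Category.assoc _ j' p, ← hj']
    simp only [Category.assoc]
    rw [hp, lift_whiskerLeft_assoc]
    simp only [Category.assoc]
  rw [hid, AlgHom.id_comp] at e
  refine LinearMap.ext fun r => ?_
  have h := AlgHom.congr_fun e r
  simp only [AlgHom.comp_apply, GLin.coactAlgHom_apply] at h
  rw [LinearMap.comp_apply, LinearMap.comp_apply, AlgHom.toLinearMap_apply, ← h]
  generalize HopfRep.Comod.coact (k := k) (A := A) r = z
  induction z with
  | zero => simp
  | add s t hs ht => simp only [map_add, hs, ht]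
  | tmul s t => simp [iR, iA, Algebra.TensorProduct.tmul_mul_tmul]

variable (j) in
/-- The function of a ring element. -/
def fn : R →+* Γ(X.left, ⊤) := DiagGL.ev (inv j)

omit [IsMonHom eG] in
theorem fn_bijective : Function.Bijective (fn j : R → Γ(X.left, ⊤)) := by
  haveI : IsIso (DiagGL.lft (inv j)) := inferInstanceAs (IsIso ((Over.forget _).map (inv j)))
  haveI : IsIso (DiagGL.lft (inv j)).appTop := inferInstanceAs (IsIso ((DiagGL.lft (inv j)).app ⊤))
  exact (ConcreteCategory.bijective_of_isIso (C := CommRingCat)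
    ((Scheme.ΓSpecIso (CommRingCat.of R)).inv ≫ (DiagGL.lft (inv j)).appTop))

omit [IsMonHom eG] in
theorem appTop_fn {K : Type u} [CommRing K] [Algebra k K] (x : R →ₐ[k] K) (r : R) :
    (pt x ≫ j).left.appTop (fn j r) = (Scheme.ΓSpecIso (CommRingCat.of K)).inv (x r) := by
  rw [fn, ← DiagGL.ev_comp, Category.assoc, IsIso.hom_inv_id, Category.comp_id, DiagGL.ev_pt]

omit [IsMonHom eG] in
/-- The invariants of the coaction are the invariant functions. -/
theorem mem_invariants_iff [IsAffine G.left] [IsIso eG] (hj : IsModel eG j a (GLin.coactAlgHom k A R)) (r : R) :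
    r ∈ GLin.invariants k A R ↔ a.act.left.appTop (fn j r) = (snd G X).left.appTop (fn j r) := by
  constructor
  · intro h
    haveI : IsAffine X.left := by
      haveI : IsIso j.left := inferInstanceAs (IsIso ((Over.forget _).map j))
      haveI : IsAffine (sp k R).left := inferInstanceAs (IsAffine (Spec _))
      exact .of_isIso (inv j.left)
    haveI : IsAffine (G ⊗ X).left := inferInstanceAs (IsAffine (Limits.pullback G.hom X.hom))
    obtain ⟨K, _, _, jK, _⟩ := exists_affModel (G ⊗ X)
    obtain ⟨x, hx⟩ := exists_pt (jK ≫ snd G X ≫ inv j)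
    obtain ⟨g, hg⟩ := exists_pt ((jK ≫ fst G X)⁻¹ ≫ inv eG)
    have hx' : pt x ≫ j = jK ≫ snd G X := by rw [hx]; simp
    have hg' : pt g ≫ eG = (jK ≫ fst G X)⁻¹ := by rw [hg]; simp
    have e := hj K x g
    rw [hg', inv_inv, hx', ← comp_lift, lift_fst_snd, Category.comp_id] at e
    haveI : IsIso jK.left := inferInstanceAs (IsIso ((Over.forget _).map jK))
    haveI : IsIso jK.left.appTop := inferInstanceAs (IsIso (jK.left.app ⊤))
    apply (ConcreteCategory.bijective_of_isIso jK.left.appTop).1
    show (jK ≫ a.act).left.appTop (fn j r) = (jK ≫ snd G X).left.appTop (fn j r)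
    rw [e, ← hx', appTop_fn, appTop_fn, AlgHom.comp_apply, GLin.coactAlgHom_apply,
      (GLin.mem_invariants_iff k A R r).1 h]
    simp
  · intro h
    let iR : R →ₐ[k] R ⊗[k] A := Algebra.TensorProduct.includeLeft
    let iA : A →ₐ[k] R ⊗[k] A := Algebra.TensorProduct.includeRight
    have e := congrArg (fun q : sp k (R ⊗[k] A) ⟶ X => q.left.appTop (fn j r)) (hj (R ⊗[k] A) iR iA)
    beta_reduce at e
    rw [appTop_fn, AlgHom.comp_apply, Over.comp_left, Scheme.Hom.comp_appTop, CommRingCat.comp_apply, h,
      ← CommRingCat.comp_apply, ← Scheme.Hom.comp_appTop, ← Over.comp_left, lift_snd, appTop_fn] at e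
    have e2 := (ConcreteCategory.bijective_of_isIso (Scheme.ΓSpecIso (CommRingCat.of (R ⊗[k] A))).inv).1 e
    rw [show pair iR iA = AlgHom.id k _ from Algebra.TensorProduct.ext' fun s t => by simp [iR, iA]] at e2
    exact e2.symm

end Groth.Agent.AffAct15
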