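import Groth.Agent.Lib.AffAct15.Glue
import Groth.Agent.Lib.UnivCat19.Basic
import Mathlib.AlgebraicGeometry.Morphisms.UniversallyInjective
import Mathlib.FieldTheory.IsAlgClosed.AlgebraicClosure

/-!
# Good quotients of closed actions are geometric
-/

set_option autoImplicit false
set_option linter.style.haveILetI false
set_option backward.isDefEq.respectTransparency.types false
universe u

open CategoryTheory Limits MonoidalCategory CartesianMonoidalCategory MonObj AlgebraicGeometry Topology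
open CoactBr (sp)
open Groth.Agent.GITQuot (exists_pullback_action)

noncomputable section

namespace Groth.Agent.AffAct15

variable {k : Type u} [Field k] {G X Y : Over (Spec (CommRingCat.of k))} [GrpObj G]

/-- The image of an orbit map is invariant. -/
theorem range_orbit_invariant (a : AlgGrp.Action G X) {T : Over (Spec (CommRingCat.of k))} (s : T ⟶ X) :
    a.act.left.base '' ((snd G X).left.base ⁻¹' Set.range ((G ◁ s) ≫ a.act).left.base) ⊆
      Set.range ((G ◁ s) ≫ a.act).left.base := by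
  rintro _ ⟨p, ⟨q, hq⟩, rfl⟩
  let m := (G ◁ s) ≫ a.act
  obtain ⟨r, hr, -⟩ := Scheme.exists_preimage_of_isPullback (GITQuot.isPullback_whiskerLeft m G) p q hq.symm
  let n : G ⊗ (G ⊗ T) ⟶ G ⊗ T :=
    lift (fst G (G ⊗ T) * (snd G (G ⊗ T) ≫ fst G T)) (snd G (G ⊗ T) ≫ snd G T)
  have e : n ≫ m = (G ◁ m) ≫ a.act := by
    simp only [n, m]
    rw [lift_whiskerLeft_assoc, AlgGrpBasic19.act_mul]
    have : (G ◁ ((G ◁ s) ≫ a.act)) = lift (fst G (G ⊗ T))
        (lift (snd G (G ⊗ T) ≫ fst G T) ((snd G (G ⊗ T) ≫ snd G T) ≫ s) ≫ a.act) := by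
      ext1
      · simp
      · simp only [whiskerLeft_snd, lift_snd]
        rw [← Category.assoc _ (G ◁ s)]
        congr 1
        ext1 <;> simp
    rw [this]
  refine ⟨n.left.base r, ?_⟩
  show (n ≫ m).left.base r = a.act.left.base p
  rw [e, ← hr]
  rfl

variable [IsAffine G.left] {A : Type u} [CommRing A] [HopfAlgebra k A] (eG : sp k A ⟶ G) [IsMonHom eG] [IsIso eG]
  (hG : HopfRep.IsLinearlyReductive k A) {a : AlgGrp.Action G X} {φ : X ⟶ Y}

include eG hG

/-- Over a good quotient a closed action separates orbits. -/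
theorem IsLocAffQuot.orbit_surjective (h : IsLocAffQuot a φ) (hcl : GIT.IsClosedAction a) :
    Function.Surjective (GIT.PsiY a φ h.1).base := by
  intro z
  let Pz := pullback φ.left φ.left
  let Ω := AlgebraicClosure (Pz.residueField z)
  let zg : Spec (CommRingCat.of Ω) ⟶ Pz :=
    Spec.map (CommRingCat.ofHom (algebraMap (Pz.residueField z) Ω)) ≫ Pz.fromSpecResidueField z
  let T : Over (Spec (CommRingCat.of k)) := Over.mk (zg ≫ pullback.fst φ.left φ.left ≫ X.hom)
  let x₁ : T ⟶ X := Over.homMk (zg ≫ pullback.fst φ.left φ.left) (Category.assoc _ _ _)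
  let x₂ : T ⟶ X := Over.homMk (zg ≫ pullback.snd φ.left φ.left) (by
    show (zg ≫ pullback.snd φ.left φ.left) ≫ X.hom = zg ≫ pullback.fst φ.left φ.left ≫ X.hom
    rw [← Over.w φ, Category.assoc, ← Category.assoc (pullback.snd φ.left φ.left), ← pullback.condition]
    simp only [zg, Category.assoc])
  let g : T ⟶ Y := x₁ ≫ φ
  have hx₂ : x₂ ≫ φ = g := Over.OverMorphism.ext (by
    show (zg ≫ _) ≫ φ.left = (zg ≫ _) ≫ φ.left
    simp only [zg, Category.assoc, pullback.condition])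
  have sq := IsPullback.of_hasPullback φ g
  obtain ⟨a', e', hi'⟩ := exists_pullback_action h.1 sq
  let s₁ : T ⟶ pullback φ g := pullback.lift x₁ (𝟙 T) (by rw [Category.id_comp])
  let s₂ : T ⟶ pullback φ g := pullback.lift x₂ (𝟙 T) (by rw [Category.id_comp]; exact hx₂)
  let j : pullback φ g ⟶ X ⊗ T := lift (pullback.fst φ g) (pullback.snd φ g)
  haveI : Mono j := ⟨fun u v huv => pullback.hom_ext (by simpa [j] using congrArg (· ≫ fst X T) huv)
    (by simpa [j] using congrArg (· ≫ snd X T) huv)⟩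
  haveI : Mono j.left := inferInstanceAs (Mono ((Over.forget _).map j))
  let m : (T ⟶ pullback φ g) → (G ⊗ T ⟶ pullback φ g) := fun s => (G ◁ s) ≫ a'.act
  have hjm : ∀ (s : T ⟶ pullback φ g) (x : T ⟶ X), s ≫ pullback.fst φ g = x → s ≫ pullback.snd φ g = 𝟙 T →
      m s ≫ j = GIT.psi a x := by
    intro s x h1 h2
    ext1
    · simp only [m, j, GIT.psi, Category.assoc, lift_fst]
      rw [e', ← MonoidalCategory.whiskerLeft_comp_assoc, h1]
    · simp only [m, j, GIT.psi, Category.assoc, lift_snd]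
      rw [show a'.act ≫ pullback.snd φ g = snd G _ ≫ pullback.snd φ g from hi', whiskerLeft_snd_assoc, h2,
        Category.comp_id]
  have hclosed : ∀ (s : T ⟶ pullback φ g) (x : T ⟶ X), s ≫ pullback.fst φ g = x → s ≫ pullback.snd φ g = 𝟙 T →
      IsClosed (Set.range (m s).left.base) := by
    intro s x h1 h2
    have : Set.range (m s).left.base = j.left.base ⁻¹' Set.range (GIT.psi a x).left.base := by
      rw [← hjm s x h1 h2]
      ext p
      refine ⟨fun ⟨q, hq⟩ => ⟨q, congrArg j.left.base hq⟩, fun ⟨q, hq⟩ => ⟨q, j.left.injective hq⟩⟩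
    rw [this]
    exact (hcl Ω T (Iso.refl _) x).preimage j.left.continuous
  have hs1 : s₁ ≫ pullback.fst φ g = x₁ := pullback.lift_fst _ _ _
  have hs1' : s₁ ≫ pullback.snd φ g = 𝟙 T := pullback.lift_snd _ _ _
  have hs2 : s₂ ≫ pullback.fst φ g = x₂ := pullback.lift_fst _ _ _
  have hs2' : s₂ ≫ pullback.snd φ g = 𝟙 T := pullback.lift_snd _ _ _
  let W : ULift.{u} Bool → Set (pullback φ g).left := fun b =>
    if b.down then Set.range (m s₁).left.base else Set.range (m s₂).left.base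
  haveI : Subsingleton T.left := inferInstanceAs (Subsingleton (PrimeSpectrum Ω))
  let t₀ : T.left := (⊥ : PrimeSpectrum Ω)
  obtain ⟨x, -, hx⟩ := (h.baseChange eG hG sq e' hi').exists_common eG hG W
    (fun b => by
      rcases b with ⟨_ | _⟩
      · exact hclosed s₂ x₂ hs2 hs2'
      · exact hclosed s₁ x₁ hs1 hs1')
    (fun b => by
      rcases b with ⟨_ | _⟩
      · exact range_orbit_invariant a' s₂
      · exact range_orbit_invariant a' s₁)
    t₀ (fun b => by
      refine subset_closure ?_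
      have key : ∀ (s : T ⟶ pullback φ g), t₀ ∈ (pullback.snd φ g).left.base '' Set.range (m s).left.base :=
        fun s => ⟨(m s).left.base ((lift (1 : T ⟶ G) (𝟙 T)).left.base t₀), ⟨_, rfl⟩, Subsingleton.elim _ _⟩
      rcases b with ⟨_ | _⟩
      · exact key s₂
      · exact key s₁)
  obtain ⟨q₁, hq₁⟩ := hx ⟨true⟩
  obtain ⟨q₂, hq₂⟩ := hx ⟨false⟩
  obtain ⟨π, -, -⟩ := Scheme.Pullback.exists_preimage_pullback (f := (m s₁).left) (g := (m s₂).left) q₁ q₂
    (hq₁.trans hq₂.symm)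
  let P : Over (Spec (CommRingCat.of k)) := Over.mk (pullback.fst (m s₁).left (m s₂).left ≫ (G ⊗ T).hom)
  let p₁ : P ⟶ G ⊗ T := Over.homMk (pullback.fst (m s₁).left (m s₂).left) rfl
  let p₂ : P ⟶ G ⊗ T := Over.homMk (pullback.snd (m s₁).left (m s₂).left) (by
    show pullback.snd _ _ ≫ (G ⊗ T).hom = pullback.fst _ _ ≫ (G ⊗ T).hom
    conv_lhs => rw [← Over.w (m s₂)]
    conv_rhs => rw [← Over.w (m s₁)]
    rw [pullback.condition_assoc])
  have hp : p₁ ≫ m s₁ = p₂ ≫ m s₂ := Over.OverMorphism.ext pullback.condition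
  let t : P ⟶ T := p₁ ≫ snd G T
  have ht : p₂ ≫ snd G T = t := by
    have := congrArg (· ≫ j ≫ snd X T) hp
    simp only [Category.assoc] at this
    rw [← Category.assoc (m s₁), ← Category.assoc (m s₂), hjm s₁ x₁ hs1 hs1', hjm s₂ x₂ hs2 hs2'] at this
    simpa [GIT.psi, t] using this.symm
  let g₁ : P ⟶ G := p₁ ≫ fst G T
  let g₂ : P ⟶ G := p₂ ≫ fst G T
  have hact : lift g₁ (t ≫ x₁) ≫ a.act = lift g₂ (t ≫ x₂) ≫ a.act := by
    have := congrArg (· ≫ j ≫ fst X T) hp
    simp only [Category.assoc] at this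
    rw [← Category.assoc (m s₁), ← Category.assoc (m s₂), hjm s₁ x₁ hs1 hs1', hjm s₂ x₂ hs2 hs2', GIT.psi,
      GIT.psi, lift_fst, lift_fst, ← Category.assoc, ← Category.assoc p₂] at this
    rw [show lift g₁ (t ≫ x₁) = p₁ ≫ (G ◁ x₁) by ext1 <;> simp [g₁, t],
      show lift g₂ (t ≫ x₂) = p₂ ≫ (G ◁ x₂) by ext1 <;> simp [g₂, ← ht]]
    exact this
  let w : P ⟶ G ⊗ X := lift (g₁⁻¹ * g₂) (t ≫ x₂)
  have hw : w ≫ a.act = t ≫ x₁ := by
    show lift (g₁⁻¹ * g₂) (t ≫ x₂) ≫ a.act = _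
    rw [AlgGrpBasic19.act_mul, ← hact, ← AlgGrpBasic19.act_mul, inv_mul_cancel, AlgGrpBasic19.act_one]
  refine ⟨w.left.base π, ?_⟩
  have e1 : w.left ≫ GIT.PsiY a φ h.1 = t.left ≫ zg := by
    apply pullback.hom_ext
    · rw [Category.assoc, GIT.PsiY, pullback.lift_fst, Category.assoc]
      exact congrArg (fun q : P ⟶ X => q.left) hw
    · rw [Category.assoc, GIT.PsiY, pullback.lift_snd, Category.assoc]
      exact congrArg (fun q : P ⟶ X => q.left) (lift_snd (g₁⁻¹ * g₂) (t ≫ x₂))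
  show (w.left ≫ GIT.PsiY a φ h.1).base π = z
  rw [e1]
  exact Scheme.fromSpecResidueField_apply z _

/-- Good quotients of closed actions are universal geometric quotients. -/
theorem IsLocAffQuot.isUnivGeomQuot (h : IsLocAffQuot a φ) (hcl : GIT.IsClosedAction a) :
    GIT.IsUnivGeomQuot a φ :=
  (UnivCat19.isUnivGeomQuot_iff (h.isUnivCatQuot eG hG)).2
    ⟨h.isUnivSubmersive eG hG, h.orbit_surjective eG hG hcl⟩

omit [IsAffine G.left] in
omit eG hG in
theorem _root_.Groth.Agent.AffAct15.catQuot_iso {Y' : Over (Spec (CommRingCat.of k))} {φ' : X ⟶ Y'}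
    (h : GIT.IsCatQuot a φ) (h' : GIT.IsCatQuot a φ') : ∃ χ : Y' ⟶ Y, IsIso χ ∧ φ' ≫ χ = φ := by
  obtain ⟨χ, hχ, -⟩ := h'.2 Y φ h.1
  obtain ⟨θ, hθ, -⟩ := h.2 Y' φ' h'.1
  refine ⟨χ, ⟨θ, ?_, ?_⟩, hχ⟩
  · obtain ⟨_, -, hu⟩ := h'.2 Y' φ' h'.1
    refine (hu _ ?_).trans (hu _ (Category.comp_id _)).symm
    show φ' ≫ χ ≫ θ = φ'
    rw [← Category.assoc, hχ, hθ]
  · obtain ⟨_, -, hu⟩ := h.2 Y φ h.1
    refine (hu _ ?_).trans (hu _ (Category.comp_id _)).symm
    show φ ≫ θ ≫ χ = φ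
    rw [← Category.assoc, hθ, hχ]

/-- Local affine quotients are transported along isomorphisms of the target. -/
theorem IsLocAffQuot.of_iso (h : IsLocAffQuot a φ) {Y' : Over (Spec (CommRingCat.of k))} (χ : Y ⟶ Y') [IsIso χ] :
    IsLocAffQuot a (φ ≫ χ) := by
  have sq : IsPullback (𝟙 X) (φ ≫ χ) φ (inv χ) := IsPullback.of_horiz_isIso ⟨by simp⟩
  refine h.baseChange eG hG sq (by simp) ?_
  show a.act ≫ φ ≫ χ = snd G X ≫ φ ≫ χ
  rw [← Category.assoc, show a.act ≫ φ = snd G X ≫ φ from h.1, Category.assoc]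

end Groth.Agent.AffAct15
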