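import Groth.Agent.Lib.AffAct15.Invariant
import Groth.Agent.Lib.HopfMod.Ideal
import Groth.Agent.Lib.GITQuot.Descend
import Groth.Agent.Lib.NRQ21.Restrict
import Mathlib.AlgebraicGeometry.Morphisms.Affine

/-!
# Affine quotients by linearly reductive groups over a field
-/

set_option autoImplicit false
set_option linter.style.haveILetI false
set_option backward.isDefEq.respectTransparency.types false
universe u

open CategoryTheory Limits MonoidalCategory CartesianMonoidalCategory MonObj AlgebraicGeometry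
open scoped TensorProduct
open CoactBr (sp pt)
open Groth.Agent.Comodule

noncomputable section

namespace Groth.Agent.AffAct15

/-- In a pushout of rings along a split injection the other leg is split injective and generates with the first. -/
theorem pushout_of_retraction {S R T C : CommRingCat.{u}} {sR : S ⟶ R} {sT : S ⟶ T} {fR : R ⟶ C} {gT : T ⟶ C}
    (h : IsPushout sR sT fR gT) (e : R → S) (he : ∀ x y, e (x + y) = e x + e y)
    (hmul : ∀ x s, e (x * sR s) = e x * s) (h1 : e 1 = 1) :
    Function.Injective gT ∧ ∀ c : C, c ∈ AddSubmonoid.closure {c : C | ∃ r t, fR r * gT t = c} := by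
  algebraize [sR.hom, sT.hom]
  let e' : R →ₗ[S] S :=
    { toFun := e
      map_add' := he
      map_smul' := fun s x => by
        rw [Algebra.smul_def, mul_comm, RingHom.id_apply, smul_eq_mul, mul_comm s]
        exact hmul x s }
  let ε : R ⊗[S] T →ₗ[S] T := (TensorProduct.lid S T).toLinearMap ∘ₗ e'.rTensor T
  have hP : IsPushout sR sT _ _ := CommRingCat.isPushout_tensorProduct S R T
  let eq := hP.isoIsPushout _ _ h
  have e1 : ∀ r, eq.hom (r ⊗ₜ[S] (1 : T)) = fR r := fun r =>
    ConcreteCategory.congr_hom (hP.inl_isoIsPushout_hom _ _ h) r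
  have e2 : ∀ t, eq.hom ((1 : R) ⊗ₜ[S] t) = gT t := fun t =>
    ConcreteCategory.congr_hom (hP.inr_isoIsPushout_hom _ _ h) t
  refine ⟨fun t t' htt' => ?_, fun c => ?_⟩
  · have : (1 : R) ⊗ₜ[S] t = (1 : R) ⊗ₜ[S] t' :=
      (ConcreteCategory.bijective_of_isIso eq.hom).1 (by rw [e2, e2, htt'])
    have := congrArg ε this
    simpa [ε, e', h1] using this
  · obtain ⟨z, rfl⟩ := (ConcreteCategory.bijective_of_isIso eq.hom).2 c
    induction z using TensorProduct.induction_on with
    | zero => rw [map_zero]; exact zero_mem _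
    | add p q hp hq => rw [map_add]; exact add_mem hp hq
    | tmul r t =>
      refine AddSubmonoid.subset_closure ⟨r, t, ?_⟩
      rw [← e1, ← e2, ← map_mul, Algebra.TensorProduct.tmul_mul_tmul, _root_.mul_one, _root_.one_mul]

/-- An invariant morphism of affine schemes identifying functions below with invariant functions. -/
structure IsAffQuot {k : Type u} [Field k] {G X Y : Over (Spec (CommRingCat.of k))} [GrpObj G]
    (a : AlgGrp.Action G X) (φ : X ⟶ Y) : Prop where
  invt : GIT.IsInvariant a φ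
  affX : IsAffine X.left
  affY : IsAffine Y.left
  inj : Function.Injective φ.left.appTop
  range : Set.range φ.left.appTop = {f : Γ(X.left, ⊤) | a.act.left.appTop f = (snd G X).left.appTop f}

variable {k : Type u} [Field k] {G X Y : Over (Spec (CommRingCat.of k))} [GrpObj G] [IsAffine G.left]
  {A : Type u} [CommRing A] [HopfAlgebra k A] (eG : sp k A ⟶ G) [IsMonHom eG] [IsIso eG]
  (hG : HopfRep.IsLinearlyReductive k A) {a : AlgGrp.Action G X} {φ : X ⟶ Y}

include eG hG

/-- A point in the closure of each image of closed invariant sets is the image of a common point. -/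
theorem IsAffQuot.exists_common (h : IsAffQuot a φ) {J : Type u} (W : J → Set X.left)
    (hc : ∀ i, IsClosed (W i)) (hi : ∀ i, a.act.left.base '' ((snd G X).left.base ⁻¹' W i) ⊆ W i)
    (y : Y.left) (hy : ∀ i, y ∈ closure (φ.left.base '' W i)) : ∃ x, φ.left.base x = y ∧ ∀ i, x ∈ W i := by
  haveI := h.affX
  haveI := h.affY
  obtain ⟨R, _, _, j, _⟩ := exists_affModel X
  obtain ⟨hC, hm, hj⟩ := exists_model eG j a
  obtain ⟨E, hE⟩ := exists_reynolds (V := R) (A := A) hG
  choose I hIs hIz using fun i => exists_stable_ideal hj (hc i) (hi i)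
  let fe : R ≃+* Γ(X.left, ⊤) := RingEquiv.ofBijective (fn j) fn_bijective
  let s : Γ(Y.left, ⊤) →+* R := fe.symm.toRingHom.comp φ.left.appTop.hom
  have hs : ∀ t, fn j (s t) = φ.left.appTop t := fun t => fe.apply_symm_apply _
  have hsinv : ∀ t, s t ∈ GLin.invariants k A R := fun t => by
    rw [mem_invariants_iff hj, hs]
    exact h.range.le ⟨t, rfl⟩
  have hsurj : ∀ r ∈ GLin.invariants k A R, ∃ t, s t = r := fun r hr => by
    obtain ⟨t, ht⟩ := h.range.ge ((mem_invariants_iff hj r).1 hr)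
    exact ⟨t, fn_bijective.1 (show fn j (s t) = fn j r by rw [hs, ht])⟩
  let p : Ideal Γ(Y.left, ⊤) := (Y.left.toSpecΓ.base y).asIdeal
  haveI : p.IsPrime := (Y.left.toSpecΓ.base y).isPrime
  have hp : ∀ t, t ∈ p ↔ y ∉ Y.left.basicOpen t := fun t => by
    rw [← Scheme.toSpecΓ_preimage_basicOpen]
    exact not_not.symm
  have hpre : ∀ t, j.left ⁻¹ᵁ X.left.basicOpen (fn j (s t)) = j.left ⁻¹ᵁ (φ.left ⁻¹ᵁ Y.left.basicOpen t) :=
    fun t => by rw [hs, Scheme.preimage_basicOpen_top φ.left]
  have hIp : ∀ i t, s t ∈ I i → t ∈ p := by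
    intro i t ht
    rw [hp]
    intro hyt
    obtain ⟨_, hmem, x, hx, rfl⟩ := mem_closure_iff.1 (hy i) _ (Y.left.basicOpen t).2 hyt
    haveI : IsIso j.left := inferInstanceAs (IsIso ((Over.forget _).map j))
    obtain ⟨q, rfl⟩ := (Scheme.homeoOfIso (asIso j.left)).surjective x
    have hq : q ∈ PrimeSpectrum.zeroLocus (I i : Set R) := by rw [hIz]; exact hx
    have hq' : q ∈ specSet j (X.left.zeroLocus (U := ⊤) {fn j (s t)}) := by
      rw [preimage_zeroLocus_fn]
      exact Set.singleton_subset_iff.2 (hq ht)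
    refine (Scheme.mem_zeroLocus_iff _ _ _).1 hq' (fn j (s t)) rfl ?_
    show q ∈ j.left ⁻¹ᵁ X.left.basicOpen (fn j (s t))
    rw [hpre]
    exact hmem
  let M : Ideal R := Ideal.map s p ⊔ ⨆ i, I i
  have hM : ∀ x ∈ M, ∃ t ∈ p, E x = s t := by
    let P : AddSubmonoid R :=
      { carrier := {x | ∃ t ∈ p, E x = s t}
        zero_mem' := ⟨0, zero_mem _, by rw [map_zero, map_zero]⟩
        add_mem' := fun {x z} ⟨t, ht, e⟩ ⟨u, hu, e'⟩ =>
          ⟨t + u, add_mem ht hu, by rw [map_add, map_add, e, e']⟩ }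
    intro x hx
    obtain ⟨u, hu, v, hv, rfl⟩ := Submodule.mem_sup.1 hx
    refine P.add_mem ?_ ?_
    · have : ∀ r, r * u ∈ P := by
        refine Submodule.span_induction ?_ ?_ ?_ ?_ hu
        · rintro _ ⟨t, ht, rfl⟩ r
          obtain ⟨t', ht'⟩ := hsurj (E r) (hE.mem r)
          exact ⟨t' * t, Ideal.mul_mem_left _ _ ht, by
            rw [HopfMod.reynolds_mul_invariant hG hE r (hsinv t), map_mul, ht']⟩
        · intro r; rw [mul_zero]; exact P.zero_mem
        · intro z w _ _ hz hw r; rw [mul_add]; exact P.add_mem (hz r) (hw r)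
        · intro c z _ hz r; rw [smul_eq_mul, ← _root_.mul_assoc]; exact hz _
      simpa using this 1
    · clear hx
      induction hv using Submodule.iSup_induction' with
      | mem i z hz =>
        obtain ⟨t, ht⟩ := hsurj (E z) (hE.mem z)
        exact ⟨t, hIp i t (ht ▸ hE.apply_mem hG (hIs i) hz), ht.symm⟩
      | zero => exact P.zero_mem
      | add z w _ _ hz hw => exact P.add_mem hz hw
  have hdis : Disjoint (M : Set R) (Submonoid.map s p.primeCompl : Submonoid R) := by
    rw [Set.disjoint_left]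
    rintro x hx ⟨t, ht, rfl⟩
    obtain ⟨t', ht', e⟩ := hM _ hx
    rw [(hE.fix (s t)).2 (hsinv t)] at e
    have : φ.left.appTop t = φ.left.appTop t' := by rw [← hs, ← hs, e]
    exact ht (h.inj this ▸ ht')
  obtain ⟨P, hP, hMP, hPd⟩ := Ideal.exists_le_prime_disjoint M _ hdis
  refine ⟨j.left.base (⟨P, hP⟩ : PrimeSpectrum R), ?_, fun i => ?_⟩
  · apply (Scheme.homeoOfIso Y.left.isoSpec).injective
    show Y.left.toSpecΓ.base _ = Y.left.toSpecΓ.base y
    refine PrimeSpectrum.ext (Ideal.ext fun t => ?_)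
    have h1 : t ∈ (Y.left.toSpecΓ.base (φ.left.base (j.left.base (⟨P, hP⟩ : PrimeSpectrum R)))).asIdeal ↔
        s t ∈ P := by
      have e := preimage_zeroLocus_fn (j := j) (s t)
      have e' := Set.ext_iff.1 e (⟨P, hP⟩ : PrimeSpectrum R)
      rw [PrimeSpectrum.mem_zeroLocus, Set.singleton_subset_iff] at e'
      refine Iff.trans ?_ e'
      show _ ↔ j.left.base _ ∈ X.left.zeroLocus _
      rw [Scheme.mem_zeroLocus_iff]
      simp only [Set.mem_singleton_iff, forall_eq, hs, ← Scheme.preimage_basicOpen_top]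
      show _ ↔ φ.left.base (j.left.base (⟨P, hP⟩ : PrimeSpectrum R)) ∉ Y.left.basicOpen t
      rw [← Scheme.toSpecΓ_preimage_basicOpen]
      exact not_not.symm
    rw [h1]
    constructor
    · intro hst
      by_contra htp
      exact Set.disjoint_left.1 hPd hst ⟨t, htp, rfl⟩
    · intro htp
      exact hMP (Submodule.mem_sup_left (Ideal.mem_map_of_mem s htp))
  · have : (⟨P, hP⟩ : PrimeSpectrum R) ∈ PrimeSpectrum.zeroLocus (I i : Set R) :=
      fun z hz => hMP (Submodule.mem_sup_right (Submodule.mem_iSup_of_mem i hz))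
    rw [hIz] at this
    exact this

/-- Affine quotients are stable under base change to affine schemes. -/
theorem IsAffQuot.baseChange (h : IsAffQuot a φ) {X' Y' : Over (Spec (CommRingCat.of k))} [IsAffine Y'.left]
    {pr : X' ⟶ X} {φ' : X' ⟶ Y'} {g : Y' ⟶ Y} (sq : IsPullback pr φ' φ g) {a' : AlgGrp.Action G X'}
    (e : a'.act ≫ pr = (G ◁ pr) ≫ a.act) (hi : GIT.IsInvariant a' φ') : IsAffQuot a' φ' := by
  haveI := h.affX
  haveI := h.affY
  have sq' : IsPullback pr.left φ'.left φ.left g.left := sq.map (Over.forget _)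
  haveI : IsAffine X'.left := .of_isPullback sq'
  obtain ⟨R, _, _, j, _⟩ := exists_affModel X
  obtain ⟨hC, hm, hj⟩ := exists_model eG j a
  obtain ⟨R', _, _, j', _⟩ := exists_affModel X'
  obtain ⟨hC', hm', hj'⟩ := exists_model eG j' a'
  obtain ⟨E, hE⟩ := exists_reynolds (V := R) (A := A) hG
  obtain ⟨E', hE'⟩ := exists_reynolds (V := R') (A := A) hG
  obtain ⟨f, hf⟩ := exists_pt (j' ≫ pr ≫ inv j)
  have hf' : pt f ≫ j = j' ≫ pr := by rw [hf]; simp
  have hfn : ∀ r, fn j' (f r) = pr.left.appTop (fn j r) := fun r => by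
    have e1 : inv j' ≫ pt f = pr ≫ inv j := by rw [hf]; simp
    have e2 : DiagGL.ev (inv j' ≫ pt f) r = DiagGL.ev (pr ≫ inv j) r := by rw [e1]
    rw [DiagGL.ev_comp pr, DiagGL.ev_comp (inv j'), DiagGL.ev_pt] at e2
    exact e2
  have hfc : Hoch.IsComodHom A f.toLinearMap := isComodHom_of_equivariant hj hj' e hf'
  have hpi : IsPushout φ.left.appTop g.left.appTop pr.left.appTop φ'.left.appTop :=
    isPushout_appTop_of_isPullback sq'
  have hinvX : ∀ t, ∃ r ∈ GLin.invariants k A R, fn j r = φ.left.appTop t := fun t => by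
    obtain ⟨r, hr⟩ := (fn_bijective (j := j)).2 (φ.left.appTop t)
    exact ⟨r, by rw [mem_invariants_iff hj, hr]; exact h.range.le ⟨t, rfl⟩, hr⟩
  let fe : R ≃+* Γ(X.left, ⊤) := RingEquiv.ofBijective (fn j) fn_bijective
  have hR : ∀ x, ∃ t, φ.left.appTop t = fn j (E (fe.symm x)) := fun x =>
    h.range.ge ((mem_invariants_iff hj _).1 (hE.mem _))
  choose ε hε using hR
  have hεadd : ∀ x y, ε (x + y) = ε x + ε y := fun x y => h.inj (by
    rw [map_add, hε, hε, hε, map_add, map_add, map_add])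
  have hεmul : ∀ x t, ε (x * φ.left.appTop t) = ε x * t := fun x t => h.inj (by
    obtain ⟨r, hr, hrt⟩ := hinvX t
    rw [map_mul, hε, hε, map_mul fe.symm,
      show fe.symm (φ.left.appTop t) = r from fe.symm_apply_eq.2 hrt.symm,
      HopfMod.reynolds_mul_invariant hG hE _ hr, map_mul, hrt])
  have hε1 : ε 1 = 1 := h.inj (by
    rw [map_one, hε, map_one fe.symm, (hE.fix 1).2 HopfMod.one_mem_fixedPts, map_one])
  obtain ⟨hinj, hgen⟩ := pushout_of_retraction hpi ε hεadd hεmul hε1
  have hrange : ∀ t, a'.act.left.appTop (φ'.left.appTop t) = (snd G X').left.appTop (φ'.left.appTop t) := fun t => by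
    rw [← CommRingCat.comp_apply, ← CommRingCat.comp_apply, ← Scheme.Hom.comp_appTop, ← Scheme.Hom.comp_appTop,
      hi.left]
  refine ⟨hi, inferInstance, inferInstance, hinj, Set.Subset.antisymm (Set.range_subset_iff.2 hrange) ?_⟩
  intro c hc
  obtain ⟨r', hr'⟩ := (fn_bijective (j := j')).2 c
  subst hr'
  have hr'inv := (mem_invariants_iff hj' r').2 hc
  let Q : AddSubmonoid Γ(X'.left, ⊤) :=
    { carrier := {c | ∀ r, fn j' r = c → ∃ t, φ'.left.appTop t = fn j' (E' r)}
      zero_mem' := fun r hr => ⟨0, by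
        rw [show r = 0 from fn_bijective.1 (hr.trans (map_zero _).symm), map_zero, map_zero, map_zero]⟩
      add_mem' := fun {x y} hx hy r hr => by
        obtain ⟨rx, hrx⟩ := (fn_bijective (j := j')).2 x
        obtain ⟨ry, hry⟩ := (fn_bijective (j := j')).2 y
        obtain ⟨t, ht⟩ := hx rx hrx
        obtain ⟨t', ht'⟩ := hy ry hry
        refine ⟨t + t', ?_⟩
        rw [show r = rx + ry from fn_bijective.1 (by rw [hr, map_add, hrx, hry]), map_add, map_add, map_add, ht, ht'] }
  have hsub : {c | ∃ x t, pr.left.appTop x * φ'.left.appTop t = c} ⊆ (Q : Set _) := by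
    rintro _ ⟨x, t, rfl⟩ r hr
    obtain ⟨x₀, rfl⟩ := (fn_bijective (j := j)).2 x
    obtain ⟨v, hv⟩ := (fn_bijective (j := j')).2 (φ'.left.appTop t)
    have hvinv : v ∈ GLin.invariants k A R' := by rw [mem_invariants_iff hj', hv]; exact hrange t
    have hr2 : r = f x₀ * v := fn_bijective.1 (by rw [hr, map_mul, hfn, hv])
    have hEf : E' (f x₀) = f (E x₀) := LinearMap.congr_fun (hE.comp_comm hG hE' hfc) x₀
    obtain ⟨u, hu⟩ := h.range.ge ((mem_invariants_iff hj _).1 (hE.mem x₀))
    refine ⟨g.left.appTop u * t, ?_⟩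
    rw [hr2, HopfMod.reynolds_mul_invariant hG hE' _ hvinv, hEf, map_mul, map_mul (fn j'), hfn, ← hu, hv]
    congr 1
    exact (ConcreteCategory.congr_hom hpi.w u).symm
  obtain ⟨t, ht⟩ := (AddSubmonoid.closure_le.2 hsub (hgen (fn j' r'))) r' rfl
  exact ⟨t, by rw [ht, (hE'.fix r').2 hr'inv]⟩

end Groth.Agent.AffAct15
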