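import Groth.Agent.Lib.AffAct15.Glue
import Groth.Agent.Lib.FinGenH28.Basic
import Groth.Agent.S17526

/-!
# The spectrum of the invariants
-/

set_option autoImplicit false
set_option linter.style.haveILetI false
set_option backward.isDefEq.respectTransparency.types false
universe u

open CategoryTheory Limits MonoidalCategory CartesianMonoidalCategory MonObj AlgebraicGeometry
open scoped TensorProduct
open CoactBr (sp pt)
open Groth.Agent.Comodule

noncomputable section

namespace Groth.Agent.AffAct15

variable {k : Type u} [Field k]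

/-- Invariants of a finitely generated equivariant algebra are finitely generated. -/
theorem finiteType_invariants {A R : Type u} [CommRing A] [HopfAlgebra k A] [CommRing R] [Algebra k R]
    [HopfRep.Comod k A R] [GLin.IsCoactAlg k A R] (hG : HopfRep.IsLinearlyReductive k A) [Algebra.FiniteType k R] :
    Algebra.FiniteType k (GLin.invariants k A R) := by
  letI hk : HopfRep.Comod k A k :=
    { coact := (TensorProduct.mk k k A).flip 1
      coassoc := LinearMap.ext_ring (by
        simp [Bialgebra.comul_one, Algebra.TensorProduct.one_def])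
      counit_comp := LinearMap.ext_ring (by simp) }
  haveI : GLin.IsCoactAlg k A k := ⟨rfl, fun x y => by
    show (x * y) ⊗ₜ[k] (1 : A) = (x ⊗ₜ[k] (1 : A)) * (y ⊗ₜ[k] (1 : A))
    rw [Algebra.TensorProduct.tmul_mul_tmul, _root_.mul_one]⟩
  have hkR : Hoch.IsComodHom A (IsScalarTower.toAlgHom k k R).toLinearMap := LinearMap.ext_ring (by
    show HopfRep.Comod.coact (k := k) (A := A) (algebraMap k R 1) =
      (IsScalarTower.toAlgHom k k R).toLinearMap.rTensor A ((1 : k) ⊗ₜ[k] (1 : A))
    rw [map_one, GLin.IsCoactAlg.coact_one (k := k), LinearMap.rTensor_tmul, Algebra.TensorProduct.one_def]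
    simp)
  obtain ⟨s, hs⟩ := FinGenH28.exists_finset_invariants_eq hG hkR
  rw [← Subalgebra.fg_iff_finiteType]
  refine ⟨s, le_antisymm ?_ ?_⟩
  · rw [hs]
    exact Algebra.adjoin_mono Set.subset_union_right
  · conv_lhs => rw [hs]
    refine Algebra.adjoin_le (Set.union_subset ?_ Algebra.subset_adjoin)
    rintro _ ⟨c, -, rfl⟩
    exact Subalgebra.algebraMap_mem _ c

variable {G X : Over (Spec (CommRingCat.of k))} [GrpObj G] [IsAffine G.left]
  {A R : Type u} [CommRing A] [HopfAlgebra k A] [CommRing R] [Algebra k R] [HopfRep.Comod k A R]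
  [GLin.IsCoactAlg k A R] {eG : sp k A ⟶ G} [IsIso eG] {j : sp k R ⟶ X} [IsIso j] {a : AlgGrp.Action G X}

/-- The spectrum of the invariants is an affine quotient. -/
theorem isAffQuot_pt_val (hj : IsModel eG j a (GLin.coactAlgHom k A R)) :
    IsAffQuot a (inv j ≫ pt (GLin.invariants k A R).val) := by
  set φ := inv j ≫ pt (GLin.invariants k A R).val
  have hev : ∀ s, DiagGL.ev φ s = fn j (s : R) := fun s => by
    rw [DiagGL.ev_comp, DiagGL.ev_pt]
    rfl
  have hφ : ∀ s : GLin.invariants k A R, φ.left.appTop ((Scheme.ΓSpecIso (CommRingCat.of _)).inv s) =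
      fn j (s : R) := fun s => hev s
  have hsurj := (ConcreteCategory.bijective_of_isIso
    (Scheme.ΓSpecIso (CommRingCat.of (GLin.invariants k A R))).inv).2
  haveI : IsAffine (sp k R).left := inferInstanceAs (IsAffine (Spec _))
  haveI : IsIso j.left := inferInstanceAs (IsIso ((Over.forget _).map j))
  refine ⟨DiagGL.ev_injective fun s => ?_, .of_isIso (inv j.left), inferInstanceAs (IsAffine (Spec _)), ?_,
    Set.Subset.antisymm (Set.range_subset_iff.2 fun t => ?_) fun f hf => ?_⟩
  · rw [DiagGL.ev_comp a.act φ, DiagGL.ev_comp (snd G X) φ, hev]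
    exact (mem_invariants_iff hj _).1 s.2
  · intro t t' h
    obtain ⟨s, rfl⟩ := hsurj t
    obtain ⟨s', rfl⟩ := hsurj t'
    exact congrArg _ (Subtype.ext (fn_bijective.1 (by rw [← hφ, ← hφ]; exact h)))
  · obtain ⟨s, rfl⟩ := hsurj t
    show a.act.left.appTop _ = (snd G X).left.appTop _
    erw [hφ]
    exact (mem_invariants_iff hj _).1 s.2
  · obtain ⟨r, rfl⟩ := (fn_bijective (j := j)).2 f
    exact ⟨_, hφ ⟨r, (mem_invariants_iff hj r).2 hf⟩⟩

end Groth.Agent.AffAct15
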